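import Groth.Agent.L00.RDerLES
import Mathlib.Algebra.Homology.ShortComplex.SnakeLemma

/-!
Dimension shifting for right derived functors; the kernel of a natural transformation.
-/

set_option autoImplicit false
set_option linter.style.haveILetI false

universe w v v' u u'

open CategoryTheory CategoryTheory.Limits CategoryTheory.Pretriangulated
open Groth.L00.RDerLES Groth.L17.GrothSS

namespace Groth.L28.LocCoh

variable {C : Type u} [Category.{v} C] [Abelian C] [EnoughInjectives C] {D : Type u'} [Category.{v'} D] [Abelian D]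
  (S : C ⥤ D) [S.Additive]

/-- the connecting morphism identifies `R^{n+1}` of the sub with a cokernel -/
theorem nonempty_cokernel_iso {T : ShortComplex C} (hT : T.ShortExact) (n : ℕ)
    (h : IsZero ((S.rightDerived (n + 1)).obj T.X₂)) :
    Nonempty (cokernel ((S.rightDerived n).map T.g) ≅ (S.rightDerived (n + 1)).obj T.X₁) := by
  letI := HasDerivedCategory.standard C
  obtain ⟨δ, hd⟩ := exists_plusTriangle hT
  let F := HomotopyCategory.homologyFunctor D (.up ℤ) 0
  let Tr := (RK S).mapTriangle.obj (Triangle.mk ((DerivedCategory.Plus.singleFunctor C 0).map T.f)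
    ((DerivedCategory.Plus.singleFunctor C 0).map T.g) δ)
  have hTr := (RK S).map_distinguished _ hd
  let e₂ := hhSingleZeroIso S T.X₂ n
  let e₃ := hhSingleZeroIso S T.X₃ n
  let e₁ := hhSingleZeroIso S T.X₁ (n + 1)
  have h3 := F.homologySequence_exact₃ Tr hTr (n : ℤ) ((n + 1 : ℕ) : ℤ) (by omega)
  have h1 := F.homologySequence_exact₁ Tr hTr (n : ℤ) ((n + 1 : ℕ) : ℤ) (by omega)
  haveI hepi := h1.epi_f ((h.of_iso (hhSingleZeroIso S T.X₂ (n + 1))).eq_of_tgt _ _)
  let g' := (HH S (n : ℤ)).map ((DerivedCategory.Plus.singleFunctor C 0).map T.g)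
  have hcomm : g' ≫ e₃.hom = e₂.hom ≫ (S.rightDerived n).map T.g := hhSingleZeroIso_naturality S T.g n
  refine ⟨(cokernel.mapIso g' ((S.rightDerived n).map T.g) e₂ e₃ hcomm).symm ≪≫ ?_ ≪≫ e₁⟩
  exact (cokernelIsCokernel g').coconePointUniqueUpToIso h3.gIsCokernel

/-- right derived functors in degree zero of left exact functors -/
theorem nonempty_cokernel_zero_iso [PreservesFiniteLimits S] {T : ShortComplex C} (hT : T.ShortExact)
    [Injective T.X₂] : Nonempty (cokernel (S.map T.g) ≅ (S.rightDerived 1).obj T.X₁) := by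
  obtain ⟨e⟩ := nonempty_cokernel_iso S hT 0 (S.isZero_rightDerived_obj_injective_succ 0 T.X₂)
  exact ⟨(cokernel.mapIso ((S.rightDerived 0).map T.g) (S.map T.g) (S.rightDerivedZeroIsoSelf.app _)
    (S.rightDerivedZeroIsoSelf.app _) (S.rightDerivedZeroIsoSelf.hom.naturality T.g)).symm ≪≫ e⟩

theorem nonempty_succ_iso {T : ShortComplex C} (hT : T.ShortExact) [Injective T.X₂] (n : ℕ) :
    Nonempty ((S.rightDerived (n + 1)).obj T.X₃ ≅ (S.rightDerived (n + 2)).obj T.X₁) := by
  obtain ⟨e⟩ := nonempty_cokernel_iso S hT (n + 1) (S.isZero_rightDerived_obj_injective_succ (n + 1) T.X₂)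
  have h0 : (S.rightDerived (n + 1)).map T.g = 0 :=
    (S.isZero_rightDerived_obj_injective_succ n T.X₂).eq_of_src _ _
  haveI : IsIso (cokernel.π ((S.rightDerived (n + 1)).map T.g)) := cokernel.π_of_zero h0
  exact ⟨asIso (cokernel.π ((S.rightDerived (n + 1)).map T.g)) ≪≫ e⟩

end Groth.L28.LocCoh
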