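import Mathlib.Algebra.Homology.ShortComplex.SnakeLemma
import Mathlib.Algebra.Homology.ShortComplex.PreservesHomology
import Mathlib.CategoryTheory.Abelian.Exact
import Mathlib.Algebra.Homology.ShortComplex.ShortExact
import Mathlib.Algebra.Homology.ShortComplex.ExactFunctor
import Mathlib.CategoryTheory.Limits.Preserves.Shapes.Kernels

/-!
The snake lemma for a natural transformation into a left exact functor.
-/

set_option autoImplicit false
set_option linter.style.haveILetI false

universe v u

open CategoryTheory CategoryTheory.Limits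

namespace Groth.L28.LocCoh

variable {C : Type u} [Category.{v} C] [Abelian C] {M : C ⥤ C} [M.Additive] [PreservesFiniteLimits M]
  (η : 𝟭 C ⟶ M) (T : ShortComplex C) (hT : T.ShortExact)

/-- the kernels of a natural transformation -/
noncomputable def kerComplex : ShortComplex C :=
  ShortComplex.mk (kernel.map (η.app T.X₁) (η.app T.X₂) T.f (M.map T.f) (η.naturality T.f).symm)
    (kernel.map (η.app T.X₂) (η.app T.X₃) T.g (M.map T.g) (η.naturality T.g).symm) (by
      rw [← cancel_mono (kernel.ι (η.app T.X₃))]; simp)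

/-- the cokernels of a natural transformation -/
noncomputable def cokComplex : ShortComplex C :=
  ShortComplex.mk (cokernel.map (η.app T.X₁) (η.app T.X₂) T.f (M.map T.f) (η.naturality T.f).symm)
    (cokernel.map (η.app T.X₂) (η.app T.X₃) T.g (M.map T.g) (η.naturality T.g).symm) (by
      rw [← cancel_epi (cokernel.π (η.app T.X₁))]; simp [← M.map_comp_assoc, Functor.map_zero])

/-- the snake input -/
noncomputable def snake : ShortComplex.SnakeInput C :=
  let a : T ⟶ T.map M := ⟨η.app T.X₁, η.app T.X₂, η.app T.X₃, (η.naturality T.f).symm, (η.naturality T.g).symm⟩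
  let p : kerComplex η T ⟶ T :=
    ⟨kernel.ι (η.app T.X₁), kernel.ι (η.app T.X₂), kernel.ι (η.app T.X₃),
      (kernel.lift_ι _ _ _).symm, (kernel.lift_ι _ _ _).symm⟩
  let q : T.map M ⟶ cokComplex η T :=
    ⟨cokernel.π (η.app T.X₁), cokernel.π (η.app T.X₂), cokernel.π (η.app T.X₃),
      cokernel.π_desc _ _ _, cokernel.π_desc _ _ _⟩
  have hpa : p ≫ a = 0 := ShortComplex.hom_ext _ _ (kernel.condition _) (kernel.condition _) (kernel.condition _)
  have haq : a ≫ q = 0 := ShortComplex.hom_ext _ _ (cokernel.condition _) (cokernel.condition _) (cokernel.condition _)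
  have hM : (T.map M).Exact ∧ Mono (M.map T.f) := ((M.preservesFiniteLimits_tfae).out 3 0 rfl rfl).1 ‹PreservesFiniteLimits M› T hT
  { L₀ := kerComplex η T
    L₁ := T
    L₂ := T.map M
    L₃ := cokComplex η T
    v₀₁ := p
    v₁₂ := a
    v₂₃ := q
    w₀₂ := hpa
    w₁₃ := haq
    h₀ := ShortComplex.isLimitOfIsLimitπ _ ((KernelFork.isLimitMapConeEquiv _ _).symm (kernelIsKernel _))
      ((KernelFork.isLimitMapConeEquiv _ _).symm (kernelIsKernel _))
      ((KernelFork.isLimitMapConeEquiv _ _).symm (kernelIsKernel _))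
    h₃ := ShortComplex.isColimitOfIsColimitπ _ ((CokernelCofork.isColimitMapCoconeEquiv _ _).symm (cokernelIsCokernel _))
      ((CokernelCofork.isColimitMapCoconeEquiv _ _).symm (cokernelIsCokernel _))
      ((CokernelCofork.isColimitMapCoconeEquiv _ _).symm (cokernelIsCokernel _))
    L₁_exact := hT.exact
    epi_L₁_g := hT.epi_g
    L₂_exact := hM.1
    mono_L₂_f := hM.2 }

include hT

theorem exact_kerComplex : (kerComplex η T).Exact := (snake η T hT).L₀_exact

omit [M.Additive] [PreservesFiniteLimits M] in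
theorem mono_kerComplex : Mono (kerComplex η T).f := by
  haveI := hT.mono_f
  haveI : Mono ((kerComplex η T).f ≫ kernel.ι (η.app T.X₂)) := by
    have h : (kerComplex η T).f ≫ kernel.ι (η.app T.X₂) = kernel.ι (η.app T.X₁) ≫ T.f := kernel.lift_ι _ _ _
    rw [h]; exact @mono_comp _ _ _ _ _ (kernel.ι (η.app T.X₁)) inferInstance T.f ‹Mono T.f›
  exact mono_of_mono _ (kernel.ι (η.app T.X₂))

theorem nonempty_cokernel_iso_of_epi [Epi (η.app T.X₂)] :
    Nonempty (cokernel (kerComplex η T).g ≅ cokernel (η.app T.X₁)) := by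
  let S := snake η T hT
  have h2 : IsZero S.L₃.X₂ := isZero_cokernel_of_epi (η.app T.X₂)
  haveI := (S.L₂'.exact_iff_epi (h2.eq_of_tgt S.L₂'.g 0)).1 S.L₂'_exact
  haveI : Epi S.L₁'.g := this
  exact ⟨(cokernelIsCokernel (kerComplex η T).g).coconePointUniqueUpToIso S.L₁'_exact.gIsCokernel⟩

end Groth.L28.LocCoh
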