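import Groth.Agent.L28.ProEt.Cech.Flasque
import Groth.Agent.L28.ProEt.Pull
import Groth.Agent.L27.EtSite.Pull
import Groth.Prelude.Def_EtShriek2
import Mathlib.CategoryTheory.Adjunction.Restrict
import Mathlib.CategoryTheory.Preadditive.Injective.Preserves
import Mathlib.Algebra.Category.Grp.AB
import Mathlib.CategoryTheory.Functor.Flat
import Mathlib.CategoryTheory.Abelian.GrothendieckAxioms.Basic

/-!
Restriction to an open subscheme: injectives, the unit is surjective on injectives.
-/

set_option autoImplicit false
set_option linter.style.haveILetI false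

universe u v₁ v₂ v₃ u₁ u₂ u₃

open CategoryTheory CategoryTheory.Limits AlgebraicGeometry Opposite

set_option backward.isDefEq.respectTransparency.types false

namespace Groth.L28.LocCoh

section Lan

variable {C : Type u₁} [Category.{v₁} C] {D : Type u₂} [Category.{v₂} D] {E : Type u₃} [Category.{v₃} E] [Abelian E]

theorem preservesMonomorphisms_lan (F : C ⥤ D)
    [∀ X : Dᵒᵖ, HasColimitsOfShape (CostructuredArrow F.op X) E]
    (hF : ∀ V : D, IsEmpty (StructuredArrow V F) ∨ IsCofiltered (StructuredArrow V F))
    (hE : ∀ X : Dᵒᵖ, IsFiltered (CostructuredArrow F.op X) → HasExactColimitsOfShape (CostructuredArrow F.op X) E) :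
    (F.op.lan : (Cᵒᵖ ⥤ E) ⥤ _).PreservesMonomorphisms := by
  refine ⟨fun {A B} φ _ => ?_⟩
  haveI : ∀ K, Mono ((F.op.lan.map φ).app K) := fun K => by
    refine ((MorphismProperty.monomorphisms E).arrow_mk_iso_iff
      (((Functor.mapArrowFunctor _ _).mapIso (ProEt.lanEval F.op K)).app (Arrow.mk φ))).2 ?_
    show Mono (colim.map (Functor.whiskerLeft (CostructuredArrow.proj F.op K) φ))
    rcases hF (unop K) with he | hf
    · haveI : IsEmpty (CostructuredArrow F.op K) :=
        ⟨fun a => he.false ((structuredArrowOpEquivalence F (unop K)).inverse.obj a).unop⟩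
      exact ⟨fun {Z} a b _ => (IsInitial.ofUniqueHom
        (fun Y => colimit.desc _ (Cocone.mk Y { app := fun j => isEmptyElim j, naturality := fun j => isEmptyElim j }))
        (fun Y m => colimit.hom_ext fun j => isEmptyElim j) |>.isZero).eq_of_tgt a b⟩
    · have hf' : IsFiltered (CostructuredArrow F.op K) :=
        IsFiltered.of_equivalence (structuredArrowOpEquivalence F (unop K))
      haveI := (hE K hf').preservesFiniteLimits
      haveI : ∀ a, Mono ((Functor.whiskerLeft (CostructuredArrow.proj F.op K) φ).app a) :=
        fun a => (NatTrans.mono_iff_mono_app φ).1 ‹Mono φ› _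
      haveI := NatTrans.mono_of_mono_app (Functor.whiskerLeft (CostructuredArrow.proj F.op K) φ)
      infer_instance
  exact NatTrans.mono_of_mono_app _

end Lan

variable {X U : Scheme.{u}} (j : U ⟶ X) [AlgebraicGeometry.Etale j] [Mono j]

theorem structuredArrow_compEtale (V : X.Etale) :
    IsEmpty (StructuredArrow V (EtShriek.compEtale j)) ∨ IsCofiltered (StructuredArrow V (EtShriek.compEtale j)) := by
  rcases isEmpty_or_nonempty (StructuredArrow V (EtShriek.compEtale j)) with h | ⟨⟨a⟩⟩
  · exact Or.inl h
  right
  obtain ⟨V', e⟩ := EtShriek.compEtaleLift j a.hom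
  haveI : ∀ b : StructuredArrow V (EtShriek.compEtale j), Nonempty (StructuredArrow.mk e.inv ⟶ b) :=
    fun b => ⟨StructuredArrow.homMk ((EtShriek.compEtale j).preimage (e.hom ≫ b.hom))
      ((congrArg (fun k => e.inv ≫ k) ((EtShriek.compEtale j).map_preimage _)).trans (e.inv_hom_id_assoc _))⟩
  haveI : ∀ b : StructuredArrow V (EtShriek.compEtale j), Subsingleton (StructuredArrow.mk e.inv ⟶ b) :=
    fun b => ⟨fun p q => StructuredArrow.hom_ext _ _ ((EtShriek.compEtale j).map_injective
      ((cancel_epi e.inv).1 (p.w.trans q.w.symm)))⟩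
  have hne : ∀ b : StructuredArrow V (EtShriek.compEtale j), Nonempty (StructuredArrow.mk e.inv ⟶ b) := fun b => inferInstance
  haveI : HasInitial (StructuredArrow V (EtShriek.compEtale j)) :=
    (IsInitial.ofUniqueHom (fun b => Classical.choice (hne b)) fun b m => Subsingleton.elim _ _).hasInitial
  exact IsCofiltered.of_hasInitial _

theorem preservesMonomorphisms_extZero : (EtShriek.extZero j).PreservesMonomorphisms := by
  haveI : AB5OfSize.{u, u + 1} AddCommGrpCat.{u + 1} := AB5OfSize_shrink.{u, u + 1, u + 1, u + 1} _
  haveI : ((EtShriek.compEtale j).op.lan : (U.Etaleᵒᵖ ⥤ AddCommGrpCat.{u + 1}) ⥤ _).PreservesMonomorphisms :=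
    preservesMonomorphisms_lan (EtShriek.compEtale j) (structuredArrow_compEtale j) fun K hf => inferInstance
  haveI : (presheafToSheaf X.smallEtaleTopology AddCommGrpCat.{u + 1}).PreservesMonomorphisms := inferInstance
  haveI : (Functor.sheafPullbackConstruction.sheafPullback (EtShriek.compEtale j) AddCommGrpCat.{u + 1}
      U.smallEtaleTopology X.smallEtaleTopology).PreservesMonomorphisms := by
    unfold Functor.sheafPullbackConstruction.sheafPullback
    infer_instance
  exact Functor.PreservesMonomorphisms.of_iso (Functor.sheafPullbackConstruction.sheafPullbackIso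
    (EtShriek.compEtale j) AddCommGrpCat.{u + 1} U.smallEtaleTopology X.smallEtaleTopology).symm

/-- restriction is left adjoint to the direct image -/
noncomputable def restrPushAdj : EtShriek.restrAlong j ⊣ EtCoh.push j :=
  (MorphismProperty.Over.mapPullbackAdj (P := EtCoh.etaleMP.{u}) (Q := ⊤) j
    (show EtCoh.etaleMP j from inferInstanceAs (AlgebraicGeometry.Etale j)) trivial : EtShriek.compEtale j ⊣ EtCoh.bc j).sheafPushforwardContinuous
      (F := EtShriek.compEtale j) (G := EtCoh.bc j) U.smallEtaleTopology X.smallEtaleTopology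

theorem preservesInjectiveObjects_pull : (EtCoh.pull j).PreservesInjectiveObjects := by
  haveI := preservesMonomorphisms_extZero j
  refine ⟨fun {I} (_ : Injective I) => ?_⟩
  haveI : Injective ((EtShriek.restrAlong j).obj I) := Injective.injective_of_adjoint (EtShriek.extZeroAdj j) I
  exact Injective.of_iso ((Adjunction.leftAdjointUniq (restrPushAdj j) (EtCoh.pullPushAdj j)).app I) inferInstance

theorem preservesFiniteLimits_pull : PreservesFiniteLimits (EtCoh.pull j) := by
  haveI : PreservesLimitsOfSize.{0, 0} (EtShriek.restrAlong j) := (EtShriek.extZeroAdj j).rightAdjoint_preservesLimits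
  haveI : PreservesLimitsOfSize.{0, 0} (EtCoh.pull j) :=
    preservesLimits_of_natIso (Adjunction.leftAdjointUniq (restrPushAdj j) (EtCoh.pullPushAdj j))
  exact PreservesLimitsOfSize.preservesFiniteLimits _

theorem epi_unit (I : EtCoh.Ab X) [Injective I] : Epi ((EtCoh.pullPushAdj j).unit.app I) := by
  have h := Adjunction.unit_leftAdjointUniq_hom_app (restrPushAdj j) (EtCoh.pullPushAdj j) I
  haveI : Injective I.obj := Injective.injective_of_adjoint (sheafificationAdjunction _ AddCommGrpCat.{u + 1}) I
  haveI : Sheaf.IsLocallySurjective ((restrPushAdj j).unit.app I) := ⟨fun {V} s => by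
    let c : (EtShriek.compEtale j).obj ((EtCoh.bc j).obj V) ⟶ V :=
      MorphismProperty.Over.homMk (pullback.fst V.hom j) pullback.condition trivial
    haveI : Mono c := by
      haveI : Mono c.left := (inferInstance : Mono (pullback.fst V.hom j))
      exact ⟨fun a b hab => MorphismProperty.Over.Hom.ext ((cancel_mono c.left).1 (congrArg (fun k => k.left) hab))⟩
    obtain ⟨t, ht⟩ := ProEt.Cech.surjective_res_of_injective.{u + 1} I.obj c s
    refine GrothendieckTopology.superset_covering _ ?_ (GrothendieckTopology.top_mem _ V)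
    intro W g _
    refine ⟨I.obj.map g.op t, ?_⟩
    refine (NatTrans.naturality_apply ((restrPushAdj j).unit.app I).hom g.op t).trans ?_
    exact congrArg (((EtCoh.push j).obj ((EtShriek.restrAlong j).obj I)).obj.map g.op) ht⟩
  haveI : Epi ((restrPushAdj j).unit.app I) :=
    (Sheaf.isLocallySurjective_iff_epi' AddCommGrpCat.{u + 1} _).mp inferInstance
  exact h ▸ epi_comp _ _

end Groth.L28.LocCoh
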